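import Cfsg.Agent.Lib.LocalStructure.RankOne.SLTwo
import Cfsg.Agent.Lib.Classical.PSUSimple
import Cfsg.Agent.Lib.SU.Borel
import Cfsg.Agent.Lib.SU.CenterCard

/-!
The rank one structure of `PSU₃(q)`.
-/

set_option autoImplicit false

namespace CfsgLib.RankOne

open Matrix CfsgLib.Classical CfsgLib.SU

universe u

variable {F : Type u} [Field F] [Fintype F] {q : ℕ} {C : UCtx F q} {p : ℕ} [Fact p.Prime]

local notation "V3" => (Fin 3 → F)

theorem perp_line (P : UPair C 3) {w : V3} (hw : w ∈ P.perp) (hww : C.form w w ≠ 0) {x : V3}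
    (hx : x ∈ P.perp) : ∃ c : F, x = c • w := by
  have hew : C.form P.e w = 0 := C.form_swap_zero hw.1
  have hfw : C.form P.f w = 0 := C.form_swap_zero hw.2
  have hli : LinearIndependent F ![P.e, P.f, w] := by
    rw [Fintype.linearIndependent_iff]
    intro g hg
    rw [Fin.sum_univ_three] at hg
    simp only [Matrix.cons_val_zero, Matrix.cons_val_one, Matrix.cons_val_two, Matrix.tail_cons,
      Matrix.head_cons] at hg
    have h0 : g 0 = 0 := by
      have h := congrArg (fun v => C.form v P.f) hg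
      simp only [C.form_add_left, C.form_smul_left, P.ef, P.ff, hw.2, C.form_zero_left] at h
      linear_combination h
    have h1 : g 1 = 0 := by
      have h := congrArg (fun v => C.form v P.e) hg
      simp only [C.form_add_left, C.form_smul_left, P.ee, P.fe, hw.1, C.form_zero_left] at h
      linear_combination h
    have h2 : g 2 = 0 := by
      have h := congrArg (fun v => C.form v w) hg
      simp only [C.form_add_left, C.form_smul_left, hew, hfw, mul_zero, zero_add, C.form_zero_left] at h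
      exact (mul_eq_zero.1 h).resolve_right hww
    intro i
    fin_cases i <;> assumption
  let b := basisOfLinearIndependentOfCardEqFinrank hli (by simp)
  have hd : x = b.repr x 0 • P.e + b.repr x 1 • P.f + b.repr x 2 • w := by
    conv_lhs => rw [← b.sum_repr x]
    rw [Fin.sum_univ_three, coe_basisOfLinearIndependentOfCardEqFinrank]
    rfl
  generalize b.repr x 0 = a, b.repr x 1 = c, b.repr x 2 = d at hd
  obtain ⟨hxe, hxf⟩ : C.form x P.e = 0 ∧ C.form x P.f = 0 := hx
  rw [hd] at hxe hxf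
  simp only [C.form_add_left, C.form_smul_left, P.ee, P.ef, P.fe, P.ff, hw.1, hw.2] at hxe hxf
  refine ⟨d, ?_⟩
  rw [hd, show a = 0 by linear_combination hxf, show c = 0 by linear_combination hxe, zero_smul, zero_smul,
    zero_add, zero_add]

theorem isotropic_perp_eq (P : UPair C 3) {v : V3} (hv : C.form v v = 0) (he : C.form v P.e = 0) :
    ∃ a : F, v = a • P.e := by
  obtain ⟨w, hw, hww⟩ := perp_exists_anisotropic C le_rfl P
  obtain ⟨c, hc⟩ := perp_line P hw hww (P.proj_mem v)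
  have hd := P.decomp v
  rw [he, zero_smul, add_zero] at hd
  obtain ⟨hw1, hw2⟩ : C.form w P.e = 0 ∧ C.form w P.f = 0 := hw
  have h0 := hv
  rw [hd, hc] at h0
  simp only [C.form_add_left, C.form_add_right, C.form_smul_left, C.form_smul_right, P.ee, hw1,
    C.form_swap_zero hw1, mul_zero, zero_add, add_zero, mul_eq_zero, hww, or_false, map_eq_zero,
    or_self] at h0
  exact ⟨C.form v P.f, hd.trans (by rw [hc, h0, zero_smul, add_zero])⟩

theorem eq_one_of_pow_p [CharP F p] {c : F} {k : ℕ} (h : c ^ p ^ k = 1) : c = 1 := by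
  haveI : ExpChar F p := ExpChar.prime Fact.out
  refine sub_eq_zero.1 (eq_zero_of_pow_eq_zero (n := p ^ k) ?_)
  rw [sub_pow_expChar_pow, one_pow, h, sub_self]

theorem eigen_pow (A : ↥(Cfsg.SU 3 F q)) {v : V3} {c : F} (h : A.1.1 *ᵥ v = c • v) (k : ℕ) :
    (A ^ k).1.1 *ᵥ v = c ^ k • v := by
  induction k with
  | zero => rw [pow_zero, su_one_mulVec, pow_zero, one_smul]
  | succ k ih => rw [pow_succ, suMat_mulVec_mul, h, Matrix.mulVec_smul, ih, smul_smul, pow_succ, mul_comm]

theorem eigen_one (A : ↥(Cfsg.SU 3 F q)) {v : V3} (hv : v ≠ 0) {c : F} [CharP F p]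
    (h : A.1.1 *ᵥ v = c • v) {k : ℕ} (hk : A ^ p ^ k = 1) : c = 1 := by
  have h1 := eigen_pow A h (p ^ k)
  rw [hk, su_one_mulVec] at h1
  obtain ⟨i, hi⟩ := Function.ne_iff.1 hv
  exact eq_one_of_pow_p (p := p) (k := k) (mul_right_cancel₀ hi (by simpa using (congrFun h1 i).symm))

/-- A `p`-element fixing the isotropic point is an Eichler transformation. -/
theorem eich_of_fix [CharP F p] (P : UPair C 3) (A : ↥(Cfsg.SU 3 F q)) {c : F}
    (hA : A.1.1 *ᵥ P.e = c • P.e) {k : ℕ} (hk : A ^ p ^ k = 1) : A ∈ P.eichGroup := by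
  obtain ⟨w, hw, hww⟩ := perp_exists_anisotropic C le_rfl P
  have hAe : A.1.1 *ᵥ P.e = P.e := by rw [hA, eigen_one (p := p) A P.e_ne_zero hA hk, one_smul]
  have h1 : C.form (A.1.1 *ᵥ P.f) P.e = 1 := by
    rw [← hAe, C.form_su, P.fe]
  have h0 : C.form (A.1.1 *ᵥ P.f) (A.1.1 *ᵥ P.f) = 0 := by rw [C.form_su, P.ff]
  obtain ⟨w1, hw1, t1, ht1, hd⟩ := P.exists_eich_point h0 (by rw [h1]; exact one_ne_zero)
  rw [h1, one_smul] at hd
  set E := P.eich w1 hw1 t1 ht1 with hE
  set H := E⁻¹ * A with hH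
  have hHe : H.1.1 *ᵥ P.e = P.e := by
    rw [hH, suMat_mulVec_mul, hAe]
    conv_lhs => rw [← P.eich_e w1 hw1 t1 ht1]
    exact su_inv_mulVec _ _
  have hHf : H.1.1 *ᵥ P.f = P.f := by
    rw [hH, suMat_mulVec_mul, hd, su_inv_mulVec]
  obtain ⟨hw0, hw0'⟩ : C.form w P.e = 0 ∧ C.form w P.f = 0 := id hw
  obtain ⟨d, hd'⟩ := perp_line P hw hww (x := H.1.1 *ᵥ w) ⟨by
    rw [← hHe, C.form_su, hw0], by rw [← hHf, C.form_su, hw0']⟩
  have hAw : ∃ s : F, A.1.1 *ᵥ w = d • w + s • P.e := by
    refine ⟨-(d * C.form w w1), ?_⟩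
    rw [show A = E * H by rw [hH]; group, suMat_mulVec_mul, hd', Matrix.mulVec_smul, hE,
      P.eich_perp _ _ _ _ hw, smul_sub, smul_smul, neg_smul, sub_eq_add_neg]
  obtain ⟨s, hs⟩ := hAw
  have hpow : ∀ j : ℕ, ∃ r : F, (A ^ j).1.1 *ᵥ w = d ^ j • w + r • P.e := by
    intro j
    induction j with
    | zero => exact ⟨0, by rw [pow_zero, su_one_mulVec, pow_zero, one_smul, zero_smul, add_zero]⟩
    | succ j ih =>
      obtain ⟨r, hr⟩ := ih
      refine ⟨d ^ j * s + r, ?_⟩
      rw [pow_succ', suMat_mulVec_mul, hr, Matrix.mulVec_add, Matrix.mulVec_smul, Matrix.mulVec_smul, hs, hAe,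
        pow_succ]
      module
  obtain ⟨r, hr⟩ := hpow (p ^ k)
  rw [hk, su_one_mulVec] at hr
  have h2 := congrArg (fun v => C.form v w) hr
  simp only [C.form_add_left, C.form_smul_left, C.form_swap_zero hw0, mul_zero, add_zero] at h2
  have hd1 : d = 1 := eq_one_of_pow_p (p := p) (k := k)
    (mul_right_cancel₀ hww (by rw [one_mul]; exact h2.symm))
  have hH1 : H = 1 := su_ext fun x => by
    obtain ⟨c', hc'⟩ := perp_line P hw hww (P.proj_mem x)
    rw [su_one_mulVec]
    conv_lhs => rw [P.decomp x]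
    simp only [Matrix.mulVec_add, Matrix.mulVec_smul, hHe, hHf, hc', hd', hd1, one_smul]
    rw [← hc', ← P.decomp x]
  rw [hH, inv_mul_eq_one] at hH1
  rw [← hH1]
  exact P.eich_mem _ _ _ _

theorem psu_three_data [CharP F p] (hp : 5 ≤ p) (hF : Fintype.card F = q ^ 2) :
    Nonempty (Data p (Cfsg.PSU 3 F q)) ∧ IsSimpleGroup (Cfsg.PSU 3 F q) ∧
      (∃ a b : Cfsg.PSU 3 F q, a * b ≠ b * a) := by
  classical
  have hpP : p.Prime := Fact.out
  obtain ⟨C⟩ := uctx_exists hF
  have hq2 : q ≠ 2 := fun h => by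
    obtain ⟨j, -, hj⟩ := FiniteField.card F p
    have h1 : p ∣ Fintype.card F := hj ▸ dvd_pow_self p j.ne_zero
    rw [hF, h] at h1
    exact absurd (Nat.le_of_dvd (by norm_num) h1) (by omega)
  have hsimp := psu_isSimple (n := 3) hF le_rfl (fun h => hq2 h.2)
  have h2 : (2 : F) ≠ 0 := by exact_mod_cast natCast_ne_zero_of_lt (F := F) (p := p) two_ne_zero (by omega)
  have h3 : (3 : F) ≠ 0 := by exact_mod_cast natCast_ne_zero_of_lt (F := F) (p := p) three_ne_zero (by omega)
  have hzc : Nat.card (Subgroup.center ↥(Cfsg.SU 3 F q)) ≤ 3 := by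
    rw [C.card_center_su hF le_rfl]; exact Nat.gcd_le_left _ (by norm_num)
  have hcop : (Nat.card (Subgroup.center ↥(Cfsg.SU 3 F q))).Coprime p :=
    Nat.coprime_comm.1 (hpP.coprime_iff_not_dvd.2 fun h => by
      have := Nat.le_of_dvd Nat.card_pos h
      omega)
  obtain ⟨v, hv0, hv⟩ : ∃ v : V3, v ≠ 0 ∧ C.form v v = 0 := by
    obtain ⟨δ, hδ0, hδ⟩ := C.exists_trace_zero
    obtain ⟨x, hx⟩ := C.exists_norm (show C.bar (-1 : F) = -1 by simp)
    refine ⟨![1, x, 0], fun h => one_ne_zero (congrFun h 0), ?_⟩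
    simp [UCtx.form, Fin.sum_univ_three, hx]
  obtain ⟨P, hPe⟩ := uPair_exists C hv0 hv
  obtain ⟨w, hw, hww⟩ := perp_exists_anisotropic C le_rfl P
  have hf0 : P.f ≠ 0 := fun h => by
    have h1 := P.ef; rw [h, C.form_zero_right] at h1; exact zero_ne_one h1
  obtain ⟨s, hs⟩ := C.exists_norm (c := (C.form w w)⁻¹) (by rw [map_inv₀, C.form_self_fixed])
  have huu : C.form (s • w) (s • w) = 1 := by
    rw [C.form_smul_left, C.form_smul_right, ← mul_assoc, hs, inv_mul_cancel₀ hww]
  have hb2 : C.bar (2 : F) = 2 := map_ofNat C.bar 2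
  obtain ⟨L, hLd, hLw⟩ := P.exists_diag (P.perp.smul_mem s hw) huu h2
  have hLw' : ∀ x ∈ P.perp, C.bar (2 : F) • (L.1.1 *ᵥ x) = (2 : F) • x := fun x hx => by
    rw [hLw x hx, hb2, show (2 : F) ^ 2 / 2 - 2 = 0 by field_simp; ring, zero_mul, zero_smul, add_zero]
  -- the group of the point
  set U := (P.eichGroup).map (pr (F := F) (q := q) (n := 3)) with hU
  have hinj : ∀ X ∈ P.eichGroup, ∀ Y ∈ P.eichGroup, pr X = pr Y → X = Y := by
    rintro _ ⟨w1, hw1, t1, ht1, rfl⟩ _ ⟨w2, hw2, t2, ht2, rfl⟩ h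
    exact C.pr_eq_fix le_rfl h P.e_ne_zero (P.eich_e _ _ _ _) (P.eich_e _ _ _ _)
  have hU' : ∀ u ∈ U, ∃ (w1 : V3) (hw1 : w1 ∈ P.perp) (t1 : F) (ht1 : t1 + C.bar t1 + C.form w1 w1 = 0),
      pr (P.eich w1 hw1 t1 ht1) = u := by
    rintro _ ⟨_, ⟨w1, hw1, t1, ht1, rfl⟩, rfl⟩
    exact ⟨w1, hw1, t1, ht1, rfl⟩
  have hone : ∀ (ht : (0 : F) + C.bar 0 + C.form (0 : V3) 0 = 0),
      P.eich 0 P.perp.zero_mem 0 ht = 1 := fun ht => su_ext fun x => by
    rw [P.eich_mulVec, su_one_mulVec, C.form_zero_right]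
    simp
  have htu : ∀ (w1 : V3) (hw1 : w1 ∈ P.perp) (t1 : F) (ht1 : t1 + C.bar t1 + C.form w1 w1 = 0),
      ∃ ht, pr L * pr (P.eich w1 hw1 t1 ht1) * (pr L)⁻¹ =
        pr (P.eich ((2 : F) • w1) (P.perp.smul_mem _ hw1) (4 * t1) ht) := by
    intro w1 hw1 t1 ht1
    obtain ⟨ht', e⟩ := hLd.conj_eich hw1 ht1
    have ht4 : 4 * t1 + C.bar (4 * t1) + C.form ((2 : F) • w1) ((2 : F) • w1) = 0 := by
      rw [C.form_smul_left, C.form_smul_right, hb2, map_mul, map_ofNat]
      linear_combination 4 * ht1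
    refine ⟨ht4, ?_⟩
    rw [← map_inv, ← map_mul, ← map_mul, e]
    exact congrArg pr (P.eich_congr (hLw' w1 hw1) (by rw [hb2]; ring))
  have hcentral : ∀ (w1 : V3) (hw1 : w1 ∈ P.perp) (t1 : F) (ht1 : t1 + C.bar t1 + C.form w1 w1 = 0),
      pr (P.eich w1 hw1 t1 ht1) ∈ Subgroup.centralizer (U : Set _) → w1 = 0 := by
    intro w1 hw1 t1 ht1 hc
    obtain ⟨c, rfl⟩ := perp_line P hw hww hw1
    suffices hc0 : c = 0 by rw [hc0, zero_smul]
    obtain ⟨a, ha⟩ := C.exists_not_fixed
    have key : ∀ b : F, C.form (c • w) (b • w) = C.form (b • w) (c • w) := by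
      intro b
      obtain ⟨t2, ht2⟩ := C.exists_trace (c := -C.form (b • w) (b • w)) (by rw [map_neg, C.form_self_fixed])
      have ht2' : t2 + C.bar t2 + C.form (b • w) (b • w) = 0 := by rw [ht2, neg_add_cancel]
      have h1 := Subgroup.mem_centralizer_iff.1 hc (pr (P.eich (b • w) (P.perp.smul_mem b hw) t2 ht2'))
        ⟨_, P.eich_mem _ _ _ _, rfl⟩
      rw [← map_mul, ← map_mul] at h1
      have h2 := hinj _ (mul_mem (P.eich_mem _ _ _ _) (P.eich_mem _ _ _ _)) _
        (mul_mem (P.eich_mem _ _ _ _) (P.eich_mem _ _ _ _)) h1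
      rw [P.eich_mul, P.eich_mul] at h2
      have h3 := (P.eich_inj h2).2
      linear_combination -h3
    have k1 := key 1
    have k2 := key a
    simp only [C.form_smul_left, C.form_smul_right, map_one, one_mul] at k1 k2
    have hbc : C.bar c = c := mul_right_cancel₀ hww (by linear_combination -k1)
    rw [hbc] at k2
    have hz : (C.bar a - a) * (c * C.form w w) = 0 := by linear_combination k2
    exact (mul_eq_zero.1 ((mul_eq_zero.1 hz).resolve_left (sub_ne_zero.2 ha))).resolve_right hww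
  have hcomm0 : ∀ (δ : F) (hδ : δ + C.bar δ + C.form (0 : V3) 0 = 0),
      pr (P.eich 0 P.perp.zero_mem δ hδ) ∈ Subgroup.centralizer (U : Set _) := by
    intro δ hδ
    refine Subgroup.mem_centralizer_iff.2 fun u hu => ?_
    obtain ⟨w1, hw1, t1, ht1, rfl⟩ := hU' u hu
    rw [← map_mul, ← map_mul, P.eich_mul, P.eich_mul]
    exact congrArg pr (P.eich_congr (by abel)
      (by rw [C.form_zero_left, C.form_zero_right]; ring))
  have hnc : ∃ a b : Cfsg.PSU 3 F q, a * b ≠ b * a := by
    by_contra h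
    push Not at h
    obtain ⟨t0, ht0⟩ := C.exists_trace (c := -C.form w w) (by rw [map_neg, C.form_self_fixed])
    exact hww (by
      rw [hcentral w hw t0 (by rw [ht0, neg_add_cancel]) (Subgroup.mem_centralizer_iff.2 fun _ _ => h _ _),
        C.form_zero_left])
  refine ⟨?_, hsimp, hnc⟩
  have hprker : ∀ X : ↥(Cfsg.SU 3 F q), pr X = 1 → X ∈ Subgroup.center _ := fun X h =>
    (QuotientGroup.eq_one_iff X).1 h
  let M : Model p (MonoidHom.id (Cfsg.PSU 3 F q)) (UPoint C 3) :=
    { surj := fun x => ⟨x, rfl⟩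
      ker_central := fun x hx => by rw [MonoidHom.mem_ker] at hx; rw [show x = 1 from hx]; exact one_mem _
      ker_coprime := by
        rw [show (MonoidHom.id (Cfsg.PSU 3 F q)).ker = ⊥ from
          (MonoidHom.ker_eq_bot_iff _).2 Function.injective_id, Subgroup.card_bot]
        exact Nat.coprime_one_left p
      simple := hsimp
      U := U
      isP := (P.isPGroup_eichGroup p).map _
      ne_bot := fun h => by
        obtain ⟨δ, hδ0, hδ⟩ := C.exists_trace_zero
        have hd : δ + C.bar δ + C.form (0 : V3) 0 = 0 := by rw [C.form_zero_left, add_zero, hδ]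
        have h0 : (0 : F) + C.bar 0 + C.form (0 : V3) 0 = 0 := by simp [C.form_zero_left]
        have h1 : pr (P.eich 0 P.perp.zero_mem δ hd) = 1 :=
          Subgroup.mem_bot.1 (h ▸ ⟨_, P.eich_mem _ _ _ _, rfl⟩)
        have h2 := hinj _ (P.eich_mem _ _ _ _) _ (P.eich_mem 0 P.perp.zero_mem 0 h0)
          (by rw [h1, hone h0, map_one])
        exact hδ0 (P.eich_inj h2).2
      e := upt C P.e P.ee P.e_ne_zero
      f := upt C P.f P.ff hf0
      ne := fun h => by
        obtain ⟨a, ha⟩ := (upt_eq_iff C le_rfl P.ff hf0 P.ee P.e_ne_zero).1 h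
        have := P.fe
        rw [ha, C.form_smul_left, P.ee, mul_zero] at this
        exact zero_ne_one this
      fix := fun u hu => by
        obtain ⟨w1, hw1, t1, ht1, rfl⟩ := hU' u hu
        rw [smul_upt, upt_eq_iff C le_rfl]
        exact ⟨1, by rw [P.eich_e, one_smul]⟩
      trans := fun x hx => by
        obtain ⟨y, hy, hy0, rfl⟩ := upt_surj C x
        have hye : C.form y P.e ≠ 0 := fun h => hx ((upt_eq_iff C le_rfl hy hy0 P.ee P.e_ne_zero).2
          (isotropic_perp_eq P hy h))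
        obtain ⟨w1, hw1, t1, ht1, hyv⟩ := P.exists_eich_point hy hye
        refine ⟨_, ⟨_, P.eich_mem w1 hw1 t1 ht1, rfl⟩, ?_⟩
        rw [smul_upt, upt_eq_iff C le_rfl]
        refine ⟨(C.form y P.e)⁻¹, ?_⟩
        conv_rhs => arg 2; rw [hyv]
        rw [inv_smul_smul₀ hye]
      free := fun u hu h => by
        obtain ⟨w1, hw1, t1, ht1, rfl⟩ := hU' u hu
        rw [smul_upt, upt_eq_iff C le_rfl] at h
        obtain ⟨a, ha⟩ := h
        rw [P.eich_f] at ha
        obtain ⟨hw1e, hw1f⟩ : C.form w1 P.e = 0 ∧ C.form w1 P.f = 0 := hw1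
        have h1 := congrArg (fun z => C.form z P.e) ha
        simp only [C.form_add_left, C.form_smul_left, P.fe, P.ee, hw1e, mul_zero, add_zero, mul_one] at h1
        have h2 := congrArg (fun z => C.form z P.f) ha
        simp only [C.form_add_left, C.form_smul_left, P.ff, P.ef, hw1f, mul_zero, add_zero, zero_add,
          mul_one] at h2
        subst h2
        rw [← h1, one_smul, zero_smul, add_zero, add_eq_left] at ha
        subst ha
        rw [hone, map_one]
      pelt := fun g hg k hk => by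
        obtain ⟨A, rfl⟩ := QuotientGroup.mk'_surjective _ g
        rw [show QuotientGroup.mk' _ A = pr A from rfl] at hg hk ⊢
        rw [smul_upt, upt_eq_iff C le_rfl] at hg
        obtain ⟨c, hc⟩ := hg
        have hAZ : A ^ p ^ k ∈ Subgroup.center _ := hprker _ (by rw [map_pow]; exact hk)
        obtain ⟨⟨z, hz⟩, hzp⟩ := (powCoprime (hcop.pow_right k)).surjective ⟨_, hAZ⟩
        have hzp' : z ^ p ^ k = A ^ p ^ k := congrArg Subtype.val hzp
        have hA1 : (A * z⁻¹) ^ p ^ k = 1 := by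
          rw [(show Commute A z⁻¹ from (Subgroup.mem_center_iff.1 (inv_mem hz) A)).mul_pow, inv_pow, hzp',
            mul_inv_cancel]
        have hpz : pr z = (1 : Cfsg.PSU 3 F q) := (QuotientGroup.eq_one_iff z).2 hz
        have hpA : pr (A * z⁻¹) = pr A := by rw [map_mul, map_inv, hpz, inv_one, mul_one]
        obtain ⟨c', hc'⟩ := (C.pr_eq_iff le_rfl).1 hpA.symm
        refine ⟨A * z⁻¹, eich_of_fix (p := p) (c := c' * c) P _ ?_ hA1, hpA⟩
        rw [hc', Matrix.smul_mulVec, hc, smul_smul]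
      g1 := pr (Classical.choose (C.exists_move (n := 3) le_rfl P.e_ne_zero hf0 P.ee P.ff))
      swap := by
        obtain ⟨a, -, ha⟩ := Classical.choose_spec (C.exists_move (n := 3) le_rfl P.e_ne_zero hf0 P.ee P.ff)
        rw [smul_upt, upt_eq_iff C le_rfl]
        exact ⟨a, ha⟩
      t := pr L
      te := by
        rw [smul_upt, upt_eq_iff C le_rfl]
        exact ⟨2, hLd.1⟩
      tf := by
        rw [smul_upt, upt_eq_iff C le_rfl]
        exact ⟨(C.bar 2)⁻¹, hLd.2⟩
      fixfree := fun u hu h => by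
        obtain ⟨w1, hw1, t1, ht1, rfl⟩ := hU' u hu
        obtain ⟨ht, e⟩ := htu w1 hw1 t1 ht1
        rw [mul_inv_eq_iff_eq_mul.2 h] at e
        obtain ⟨e1, e2⟩ := P.eich_inj (hinj _ (P.eich_mem _ _ _ _) _ (P.eich_mem _ _ _ _) e.symm)
        have hw10 : w1 = 0 := by
          calc w1 = (2 : F) • w1 - w1 := by module
            _ = 0 := by rw [e1, sub_self]
        have ht10 : t1 = 0 := (mul_eq_zero.1 (show (3 : F) * t1 = 0 by linear_combination e2)).resolve_left h3
        subst hw10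
        subst ht10
        rw [hone, map_one]
      m := 2
      m' := 4
      hquot := fun u hu => by
        obtain ⟨w1, hw1, t1, ht1, rfl⟩ := hU' u hu
        obtain ⟨ht, e⟩ := htu w1 hw1 t1 ht1
        rw [e, ← map_pow, sq, P.eich_mul]
        have hδ : (4 * t1 - (t1 + t1 - C.form w1 w1)) + C.bar (4 * t1 - (t1 + t1 - C.form w1 w1)) +
            C.form (0 : V3) 0 = 0 := by
          simp only [map_sub, map_add, map_mul, map_ofNat, C.form_self_fixed, C.form_zero_left]
          linear_combination 2 * ht1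
        have e2 : P.eich ((2 : F) • w1) (P.perp.smul_mem _ hw1) (4 * t1) ht =
            P.eich 0 P.perp.zero_mem _ hδ *
              P.eich (w1 + w1) (P.perp.add_mem hw1 hw1) (t1 + t1 - C.form w1 w1) (P.eich_cond_mul ht1 ht1) := by
          rw [P.eich_mul]
          exact P.eich_congr (by module) (by rw [C.form_zero_right]; ring)
        rw [e2, map_mul, mul_inv_cancel_right]
        exact hcomm0 _ hδ
      hcent := fun u hu hc => by
        obtain ⟨w1, hw1, t1, ht1, rfl⟩ := hU' u hu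
        obtain ⟨ht, e⟩ := htu w1 hw1 t1 ht1
        have hw10 := hcentral w1 hw1 t1 ht1 hc
        rw [e, ← map_pow, pow_succ, pow_succ, pow_succ, pow_one, P.eich_mul, P.eich_mul, P.eich_mul]
        refine congrArg pr (P.eich_congr (by rw [hw10]; simp) ?_)
        subst hw10
        simp only [add_zero, C.form_zero_left, sub_zero]
        ring }
  exact M.nonempty_data hnc

end CfsgLib.RankOne
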