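import Cfsg.Agent.Lib.LocalStructure.RankOne.Core
import Cfsg.Agent.Lib.Coprime.Core
import Cfsg.Agent.Lib.Fusion.Residual

/-!
Rank one Sylow structures from doubly transitive actions, and the passage to groups with central `p'`-extensions
of such groups as `p`-residual.
-/

set_option autoImplicit false

namespace CfsgLib.RankOne

open scoped Pointwise
open Subgroup

variable {p : ℕ} [Fact p.Prime]

section Action

variable {G X : Type*} [Group G] [Finite G] [Group X] [Finite X] {Ω : Type*} [MulAction G Ω]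

/-- The hypotheses on an action giving a rank one structure on the image. -/
structure Model (p : ℕ) (π : G →* X) (Ω : Type*) [MulAction G Ω] where
  surj : Function.Surjective π
  ker_central : π.ker ≤ center G
  ker_coprime : (Nat.card π.ker).Coprime p
  simple : IsSimpleGroup X
  U : Subgroup G
  isP : IsPGroup p U
  ne_bot : U ≠ ⊥
  e : Ω
  f : Ω
  ne : f ≠ e
  fix : ∀ u ∈ U, u • e = e
  trans : ∀ x : Ω, x ≠ e → ∃ u ∈ U, u • f = x
  free : ∀ u ∈ U, u • f = f → u = 1
  pelt : ∀ g : G, g • e = e → ∀ k : ℕ, g ^ p ^ k = 1 → g ∈ U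
  g1 : G
  swap : g1 • e = f
  t : G
  te : t • e = e
  tf : t • f = f
  fixfree : ∀ u ∈ U, t * u = u * t → u = 1
  m : ℕ
  m' : ℕ
  hquot : ∀ u ∈ U, t * u * t⁻¹ * (u ^ m)⁻¹ ∈ centralizer (U : Set G)
  hcent : ∀ u ∈ U, u ∈ centralizer (U : Set G) → t * u * t⁻¹ = u ^ m'

variable {π : G →* X} (M : Model p π Ω)

theorem Model.conj_mem {g : G} (hg : g • M.e = M.e) {u : G} (hu : u ∈ M.U) : g * u * g⁻¹ ∈ M.U := by
  obtain ⟨k, hk⟩ := M.isP ⟨u, hu⟩
  have hk' : u ^ p ^ k = 1 := congrArg Subtype.val hk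
  refine M.pelt _ ?_ k (by rw [conj_pow, hk', mul_one, mul_inv_cancel])
  rw [mul_smul, mul_smul, inv_smul_eq_iff.2 hg.symm, M.fix u hu, hg]

theorem Model.eq_e {x : Ω} (hx : ∀ u ∈ M.U, u • x = x) : x = M.e := by
  by_contra hne
  obtain ⟨u, hu, rfl⟩ := M.trans x hne
  refine M.ne_bot ((eq_bot_iff_forall _).2 fun v hv => ?_)
  have h1 := M.free (u⁻¹ * v * u) (mul_mem (mul_mem (inv_mem hu) hv) hu) (by
    rw [mul_smul, mul_smul, hx v hv, inv_smul_smul])
  calc v = u * (u⁻¹ * v * u) * u⁻¹ := by group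
    _ = 1 := by rw [h1, mul_one, mul_inv_cancel]

theorem Model.fix_of_conj {h : G} (hh : ∀ u ∈ M.U, h⁻¹ * u * h ∈ M.U) : h • M.e = M.e := by
  refine M.eq_e fun u hu => ?_
  have h1 := congrArg (h • ·) (M.fix _ (hh u hu))
  simp only [mul_smul, smul_inv_smul] at h1
  exact h1

theorem Model.isSylow : ∀ P : Sylow p G, M.U ≤ (P : Subgroup G) → (P : Subgroup G) = M.U := by
  intro P hle
  refine le_antisymm ?_ hle
  haveI := P.isPGroup'.isNilpotent
  by_contra hnot
  have hlt : M.U.subgroupOf (P : Subgroup G) < ⊤ :=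
    lt_top_iff_ne_top.2 fun h => hnot (subgroupOf_eq_top.1 h)
  obtain ⟨-, y, hy, hyU⟩ :=
    SetLike.lt_iff_le_and_exists.1 (Group.normalizerCondition_of_isNilpotent _ hlt)
  refine hyU (mem_subgroupOf.2 ?_)
  obtain ⟨k, hk⟩ := P.isPGroup' y
  refine M.pelt _ (M.fix_of_conj fun u hu => ?_) k (congrArg Subtype.val hk)
  have h1 := (mem_normalizer_iff.1 (inv_mem hy) ⟨u, hle hu⟩).1 (mem_subgroupOf.2 hu)
  simpa [mem_subgroupOf] using h1

include M in
theorem Model.ker_pow {z : G} (hz : z ∈ π.ker) {k : ℕ} (hk : z ^ p ^ k = 1) : z = 1 := by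
  have h1 : orderOf z ∣ Nat.card π.ker := by
    have := orderOf_dvd_natCard (⟨z, hz⟩ : π.ker)
    rwa [Subgroup.orderOf_mk] at this
  exact orderOf_eq_one_iff.1 (Nat.eq_one_of_dvd_coprimes (M.ker_coprime.pow_right k) h1
    (orderOf_dvd_of_pow_eq_one hk))

theorem Model.inj {u v : G} (hu : u ∈ M.U) (hv : v ∈ M.U) (h : π u = π v) : u = v := by
  obtain ⟨k, hk⟩ := M.isP ⟨_, mul_mem (inv_mem hu) hv⟩
  exact inv_mul_eq_one.1 (M.ker_pow (by rw [MonoidHom.mem_ker, map_mul, map_inv, h, inv_mul_cancel])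
    (congrArg Subtype.val hk : (u⁻¹ * v) ^ p ^ k = 1))

include M in
theorem Model.nonempty_data (hnc : ∃ a b : X, a * b ≠ b * a) : Nonempty (Data p X) := by
  classical
  obtain ⟨P, hP⟩ := M.isP.exists_le_sylow
  have hPU := M.isSylow P hP
  let UX : Sylow p X := Sylow.mapSurjective M.surj P
  have hUX : (UX : Subgroup X) = M.U.map π := by rw [← hPU]; rfl
  have hmemU : ∀ u ∈ M.U, π u ∈ UX := fun u hu => by
    show π u ∈ (UX : Subgroup X); rw [hUX]; exact mem_map_of_mem π hu
  have hpre : ∀ y ∈ UX, ∃ u ∈ M.U, π u = y := fun y hy => by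
    have h : y ∈ (UX : Subgroup X) := hy
    rw [hUX] at h; exact h
  have hfixU : ∀ g : G, π g • UX = UX ↔ g • M.e = M.e := by
    intro g
    rw [Sylow.smul_eq_iff_mem_normalizer]
    constructor
    · intro hg
      refine M.fix_of_conj fun u hu => ?_
      have h1 := (mem_normalizer_iff.1 (inv_mem hg) (π u)).1 (hmemU u hu)
      obtain ⟨v, hv, hvu⟩ := hpre _ h1
      have hz : v⁻¹ * (g⁻¹ * u * g) ∈ π.ker := by
        rw [MonoidHom.mem_ker, map_mul, map_inv, hvu, map_mul, map_mul, map_inv]; group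
      set z := v⁻¹ * (g⁻¹ * u * g) with hzdef
      obtain ⟨k, hk⟩ := IsPGroup.iff_card.1 M.isP
      have hpow : ∀ w ∈ M.U, w ^ p ^ k = 1 := fun w hw => by
        have := congrArg Subtype.val (pow_card_eq_one' (x := (⟨w, hw⟩ : M.U)))
        rwa [hk] at this
      have h2 : (v * z) ^ p ^ k = 1 := by
        have : v * z = g⁻¹ * u * g⁻¹⁻¹ := by rw [hzdef]; group
        rw [this, conj_pow, hpow u hu]; group
      have hcz : Commute v z := mem_center_iff.1 (M.ker_central hz) v
      rw [hcz.mul_pow, hpow v hv, one_mul] at h2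
      have hz1 := M.ker_pow hz h2
      rw [hzdef, inv_mul_eq_one] at hz1
      exact hz1 ▸ hv
    · intro hg
      refine mem_normalizer_fintype fun y hy => ?_
      obtain ⟨u, hu, rfl⟩ := hpre y hy
      rw [← map_inv, ← map_mul, ← map_mul]
      exact hmemU _ (M.conj_mem hg hu)
  let VX : Sylow p X := π M.g1 • UX
  have hfixV : ∀ g : G, π g • VX = VX ↔ g • M.f = M.f := by
    intro g
    rw [show VX = π M.g1 • UX from rfl,
      show π g • π M.g1 • UX = π M.g1 • UX ↔ π (M.g1⁻¹ * g * M.g1) • UX = UX by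
        rw [map_mul, map_mul, map_inv, mul_smul, mul_smul, inv_smul_eq_iff],
      hfixU, mul_smul, mul_smul, M.swap, inv_smul_eq_iff, M.swap]
  have hneUV : VX ≠ UX := fun h => M.ne ((hfixU M.g1).1 h ▸ M.swap.symm)
  refine ⟨{
    U := UX
    V := VX
    ne := hneUV
    conj := fun Q hQ => ?_
    free := fun y hy hyV => ?_
    faithful := fun y hy => ?_
    t := π M.t
    tU := (hfixU _).2 M.te
    tV := (hfixV _).2 M.tf
    fixfree := fun y hy hc => ?_
    m := M.m
    m' := M.m'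
    hquot := fun y hy => ?_
    hcent := fun y hy hc => ?_ }⟩
  · obtain ⟨x, hx⟩ := MulAction.exists_smul_eq X UX Q
    obtain ⟨g, rfl⟩ := M.surj x
    have hge : g • M.e ≠ M.e := fun h => hQ (by rw [← hx, (hfixU g).2 h])
    obtain ⟨u, hu, hue⟩ := M.trans _ hge
    refine ⟨π u, hmemU u hu, ?_⟩
    have h1 : π (g⁻¹ * u * M.g1) • UX = UX := (hfixU _).2 (by
      rw [mul_smul, mul_smul, M.swap, hue, inv_smul_smul])
    rw [map_mul, map_mul, map_inv, mul_smul, mul_smul, inv_smul_eq_iff, hx] at h1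
    exact h1
  · obtain ⟨u, hu, rfl⟩ := hpre y hy
    rw [M.free u hu ((hfixV u).1 hyV), map_one]
  · haveI := M.simple
    have hmem : ∀ w : X, w ∈ (MulAction.toPermHom X (Sylow p X)).ker ↔ ∀ Q : Sylow p X, w • Q = Q :=
      fun w => by simp [MonoidHom.mem_ker, Equiv.ext_iff]
    rcases (MonoidHom.normal_ker (MulAction.toPermHom X (Sylow p X))).eq_bot_or_eq_top with h | h
    · exact mem_bot.1 (h ▸ (hmem y).2 hy)
    · exact absurd ((hmem (π M.g1)).1 (h ▸ mem_top _) UX) hneUV
  · obtain ⟨u, hu, rfl⟩ := hpre y hy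
    have h1 : M.t * u * M.t⁻¹ = u := M.inj (M.conj_mem M.te hu) hu (by
      rw [map_mul, map_mul, map_inv, hc]; group)
    rw [M.fixfree u hu (mul_inv_eq_iff_eq_mul.1 h1), map_one]
  · obtain ⟨u, hu, rfl⟩ := hpre y hy
    refine mem_centralizer_iff.2 fun w hw => ?_
    obtain ⟨v, hv, rfl⟩ := hpre w hw
    rw [← map_inv, ← map_mul, ← map_mul, ← map_pow, ← map_inv, ← map_mul, ← map_mul, ← map_mul,
      mem_centralizer_iff.1 (M.hquot u hu) v hv]
  · obtain ⟨u, hu, rfl⟩ := hpre y hy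
    have huc : u ∈ centralizer (M.U : Set G) := mem_centralizer_iff.2 fun v hv =>
      M.inj (mul_mem hv hu) (mul_mem hu hv) (by
        rw [map_mul, map_mul]; exact mem_centralizer_iff.1 hc _ (hmemU v hv))
    rw [← map_inv, ← map_mul, ← map_mul, M.hcent u hu huc, map_pow]

end Action

section Reduction

variable {Pb X : Type*} [Group Pb] [Finite Pb] [Group X] [Finite X]

/-- A `p`-element centralising a Sylow normaliser is trivial when the residual is a central `p'`-extension of a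
rank one group. -/
theorem eq_one_of_residual (Xb : Subgroup Pb) [hXn : Xb.Normal] (hquot : IsPGroup p (Pb ⧸ Xb))
    (hcore : Cfsg.pCore p Pb = ⊥) (φ : ↥Xb →* X) (hφ : Function.Surjective φ)
    (hker : φ.ker ≤ center ↥Xb) (hsmall : Nat.card φ.ker < p) (hXc : center X = ⊥) (D : Data p X)
    (S : Sylow p Pb) {z : Pb} (hz : z ∈ S) (hzc : ∀ g : Pb, g • S = S → Commute g z) : z = 1 := by
  classical
  have hp : p.Prime := Fact.out
  set Zb : Subgroup Pb := φ.ker.map Xb.subtype with hZb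
  have hkerEq : φ.ker = center ↥Xb := le_antisymm hker fun c hc => by
    rw [MonoidHom.mem_ker, ← mem_bot, ← hXc, mem_center_iff]
    intro w
    obtain ⟨v, rfl⟩ := hφ w
    rw [← map_mul, ← map_mul, mem_center_iff.1 hc]
  haveI hZn : Zb.Normal := by
    rw [hZb, hkerEq]
    infer_instance
  have hZcard : Nat.card Zb < p := by
    rw [hZb, card_map_of_injective (subtype_injective Xb)]; exact hsmall
  have hZcop : (Nat.card Zb).Coprime p :=
    (Nat.coprime_comm.1 (hp.coprime_iff_not_dvd.2 fun h =>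
      absurd (Nat.le_of_dvd Nat.card_pos h) (not_le.2 hZcard)))
  have hZ1 : ∀ c ∈ Zb, ∀ k : ℕ, c ^ p ^ k = 1 → c = 1 := by
    intro c hc k hk
    have h1 : orderOf c ∣ Nat.card Zb := by
      have := orderOf_dvd_natCard (⟨c, hc⟩ : Zb)
      rwa [Subgroup.orderOf_mk] at this
    exact orderOf_eq_one_iff.1 (Nat.eq_one_of_dvd_coprimes (hZcop.pow_right k) h1
      (orderOf_dvd_of_pow_eq_one hk))
  -- `p`-elements centralise `Zb`
  have hpc : ∀ (c : Pb) (k : ℕ), c ^ p ^ k = 1 → ∀ w ∈ Zb, Commute c w := by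
    intro c k hk w hw
    set σ : MulAut Zb := MulAut.conjNormal c with hσ
    have hσk : (MulAction.toPermHom (MulAut Zb) Zb σ) ^ p ^ k = 1 := by
      rw [← map_pow, hσ, ← map_pow, hk, map_one, map_one]
    set π' := MulAction.toPermHom (MulAut Zb) Zb σ with hπ'
    have hone : π' = 1 := by
      obtain ⟨j, -, hj⟩ := (Nat.dvd_prime_pow hp).1 (orderOf_dvd_of_pow_eq_one hσk)
      rcases Nat.eq_zero_or_pos j with rfl | hjpos
      · rwa [pow_zero, orderOf_eq_one_iff] at hj
      · exfalso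
        have h1 : orderOf π' ∣ Nat.card (Equiv.Perm Zb) := orderOf_dvd_natCard _
        rw [Nat.card_perm, hj] at h1
        have h2 : p ≤ Nat.card Zb :=
          (hp.dvd_factorial).1 ((dvd_pow_self p hjpos.ne').trans h1)
        omega
    have h3 : σ ⟨w, hw⟩ = ⟨w, hw⟩ := by
      have := Equiv.ext_iff.1 hone ⟨w, hw⟩
      simpa [hπ'] using this
    have h4 := congrArg Subtype.val h3
    rw [hσ, MulAut.conjNormal_apply] at h4
    exact mul_inv_eq_iff_eq_mul.1 h4
  let π := QuotientGroup.mk' Zb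
  have hψker : φ.ker ≤ (π.comp Xb.subtype).ker := fun c hc => by
    rw [MonoidHom.mem_ker]
    exact (QuotientGroup.eq_one_iff _).2 ⟨c, hc, rfl⟩
  let ι : X →* Pb ⧸ Zb := φ.liftOfSurjective hφ ⟨π.comp Xb.subtype, hψker⟩
  have hι : ∀ c : Xb, ι (φ c) = π (c : Pb) := fun c => MonoidHom.liftOfRightInverse_comp_apply _ _ _ _ c
  have hinj : Function.Injective ι := by
    refine (injective_iff_map_eq_one ι).2 fun y hy => ?_
    obtain ⟨c, rfl⟩ := hφ y
    rw [hι] at hy
    obtain ⟨d, hd, hdc⟩ := (QuotientGroup.eq_one_iff (c : Pb)).1 hy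
    rw [← Subtype.ext hdc]; exact hd
  have hrange : ι.range = Xb.map π := by
    refine le_antisymm ?_ ?_
    · rintro _ ⟨y, rfl⟩
      obtain ⟨c, rfl⟩ := hφ y
      exact ⟨c, c.2, (hι c).symm⟩
    · rintro _ ⟨c, hc, rfl⟩
      exact ⟨φ ⟨c, hc⟩, hι _⟩
  haveI : ι.range.Normal := hrange ▸ hXn.map π (QuotientGroup.mk'_surjective _)
  -- trivial centraliser
  have hC : centralizer ((ι.range : Subgroup (Pb ⧸ Zb)) : Set (Pb ⧸ Zb)) = ⊥ := by
    set C' := (centralizer ((ι.range : Subgroup (Pb ⧸ Zb)) : Set (Pb ⧸ Zb))).comap π with hC'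
    haveI : C'.Normal := by
      rw [hC']; infer_instance
    have hCX : ∀ c ∈ C', c ∈ Xb → c ∈ Zb := by
      intro c hc hcX
      refine ⟨⟨c, hcX⟩, ?_, rfl⟩
      rw [SetLike.mem_coe, MonoidHom.mem_ker, ← mem_bot, ← hXc, mem_center_iff]
      intro w
      refine hinj ?_
      rw [map_mul, map_mul, hι]
      exact mem_centralizer_iff.1 hc _ ⟨w, rfl⟩
    have hcent : ∀ c ∈ C', ∀ w ∈ Zb, Commute c w := by
      intro c hc w hw
      obtain ⟨k, hk⟩ := hquot (QuotientGroup.mk c)
      rw [← QuotientGroup.mk_pow, QuotientGroup.eq_one_iff] at hk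
      obtain ⟨d, hd, hdc⟩ := hCX _ (pow_mem hc _) hk
      have hN : orderOf c ≠ 0 := (orderOf_pos c).ne'
      obtain ⟨a, r, hr, heq⟩ := Nat.exists_eq_pow_mul_and_not_dvd hN p hp.ne_one
      obtain ⟨b, hb⟩ : ∃ b, orderOf (c ^ r) ∣ p ^ b := ⟨a, orderOf_dvd_of_pow_eq_one (by
        rw [← pow_mul, mul_comm, ← heq, pow_orderOf_eq_one])⟩
      have h1 : Commute (c ^ r) w := hpc _ b (orderOf_dvd_iff_pow_eq_one.1 hb) w hw
      have hZab : ∀ x ∈ Zb, Commute x w := by
        rintro x ⟨x', hx', rfl⟩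
        obtain ⟨w', hw', rfl⟩ := hw
        exact congrArg Xb.subtype ((mem_center_iff.1 (hker hw') x'))
      have h2 : Commute (c ^ p ^ k) w := hZab _ ⟨d, hd, hdc⟩
      have hco : Nat.Coprime r (p ^ k) := (Nat.Coprime.pow_right k
        (Nat.coprime_comm.1 (hp.coprime_iff_not_dvd.2 hr)))
      have hbez := Nat.gcd_eq_gcd_ab r (p ^ k)
      rw [hco] at hbez
      have h3 := (h1.zpow_left (Nat.gcdA r (p ^ k))).mul_left (h2.zpow_left (Nat.gcdB r (p ^ k)))
      rw [← zpow_natCast c r, ← zpow_natCast c (p ^ k), ← zpow_mul, ← zpow_mul, ← zpow_add, ← hbez,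
        Nat.cast_one, zpow_one] at h3
      exact h3
    set T : Sylow p C' := default with hT
    -- the `p`-elements of `C'` form a normal subgroup
    have hZC : Zb ≤ C' := fun w hw => by
      rw [hC', mem_comap, show π w = 1 from (QuotientGroup.eq_one_iff w).2 hw]
      exact one_mem _
    have hpC : ∀ c : C', ∀ k : ℕ, c ^ p ^ k = 1 → c = 1 := by
      have hnil : Group.IsNilpotent C' := by
        haveI : Group.IsNilpotent (C' ⧸ Zb.subgroupOf C') := by
          refine IsPGroup.isNilpotent (p := p) fun y => ?_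
          obtain ⟨c, rfl⟩ := QuotientGroup.mk'_surjective _ y
          obtain ⟨k, hk⟩ := hquot (QuotientGroup.mk (c : Pb))
          rw [← QuotientGroup.mk_pow, QuotientGroup.eq_one_iff] at hk
          exact ⟨k, (QuotientGroup.eq_one_iff _).2 (hCX _ (pow_mem c.2 _) hk)⟩
        refine Subgroup.isNilpotent_of_ker_le_center (QuotientGroup.mk' (Zb.subgroupOf C')) ?_
        rw [QuotientGroup.ker_mk']
        intro w hw
        rw [mem_center_iff]
        exact fun c => Subtype.ext (hcent c c.2 w hw).eq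
      have hTn : (T : Subgroup C').Normal := inferInstance
      haveI : (T : Subgroup C').Characteristic := Sylow.characteristic_of_normal T hTn
      have hbot : (T : Subgroup C').map C'.subtype = ⊥ := le_bot_iff.1 (hcore ▸
        CfsgLib.Coprime.le_pCore (T.isPGroup'.map C'.subtype))
      intro c k hk
      have hcT : c ∈ (T : Subgroup C') := mem_sylow_of_pow T
        (Sylow.smul_eq_iff_mem_normalizer.2 (normalizer_eq_top_iff.2 hTn ▸ mem_top c)) hk
      have := mem_map_of_mem C'.subtype hcT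
      rw [hbot, mem_bot] at this
      exact Subtype.ext this
    refine (eq_bot_iff_forall _).2 fun y hy => ?_
    obtain ⟨c, rfl⟩ := QuotientGroup.mk'_surjective Zb y
    obtain ⟨k, hk⟩ := hquot (QuotientGroup.mk c)
    rw [← QuotientGroup.mk_pow, QuotientGroup.eq_one_iff] at hk
    have hd : c ^ p ^ k ∈ Zb := hCX _ (pow_mem (show c ∈ C' from hy) _) hk
    obtain ⟨d, hd2⟩ : ∃ d ∈ Zb, d ^ p ^ k = c ^ p ^ k := by
      obtain ⟨⟨d, hdZ⟩, hd3⟩ := (powCoprime (hZcop.pow_right k)).surjective ⟨_, hd⟩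
      exact ⟨d, hdZ, congrArg Subtype.val hd3⟩
    have hcd : (c * d⁻¹) ^ p ^ k = 1 := by
      rw [(hcent c hy _ (inv_mem hd2.1)).mul_pow, inv_pow, hd2.2, mul_inv_cancel]
    have h1 := hpC ⟨c * d⁻¹, mul_mem hy (inv_mem (hZC hd2.1))⟩ k (Subtype.ext hcd)
    refine (QuotientGroup.eq_one_iff c).2 ?_
    rw [mul_inv_eq_one.1 (congrArg Subtype.val h1)]
    exact hd2.1
  let S' : Sylow p (Pb ⧸ Zb) := Sylow.mapSurjective (QuotientGroup.mk'_surjective Zb) S
  have hone : π z = 1 := by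
    refine D.eq_one_of_centralizes_normalizer ι hC hinj S' fun y hy => ?_
    obtain ⟨g, rfl⟩ : ∃ g, π g = y := QuotientGroup.mk'_surjective Zb y
    -- lift to the normaliser of `S`
    set H := ((S' : Subgroup (Pb ⧸ Zb))).comap π with hH
    have hSH : (S : Subgroup Pb) ≤ H := fun s hs => mem_map_of_mem π hs
    have hgH : ((g • S : Sylow p Pb) : Subgroup Pb) ≤ H := by
      intro s hs
      rw [Sylow.coe_subgroup_smul, mem_pointwise_smul_iff_inv_smul_mem] at hs
      rw [hH, mem_comap]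
      have h1 := conj_mem_of_smul hy (show π _ ∈ S' from mem_map_of_mem π hs)
      have e : π g * π ((MulAut.conj g)⁻¹ • s) * (π g)⁻¹ = π s := by
        rw [← map_inv, MulAut.smul_def, MulAut.conj_apply, inv_inv, map_mul, map_mul, map_inv]; group
      exact e ▸ h1
    obtain ⟨x, hx⟩ := MulAction.exists_smul_eq H (S.subtype hSH) ((g • S).subtype hgH)
    have hxS : (x : Pb) • S = g • S := by
      rw [Sylow.smul_subtype] at hx
      exact Sylow.subtype_injective hx
    obtain ⟨s, hs, hsx⟩ := (show π x ∈ (S' : Subgroup (Pb ⧸ Zb)) from x.2)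
    have hgx : ((x : Pb)⁻¹ * g) • S = S := by rw [mul_smul, ← hxS, inv_smul_smul]
    have h1 : Commute (π ((x : Pb)⁻¹ * g)) (π z) := (hzc _ hgx).map π
    have h2 : Commute (π s) (π z) := (hzc s (smul_self_of_mem hs)).map π
    have h3 := h2.mul_left h1
    rw [map_mul, map_inv, ← hsx, mul_inv_cancel_left] at h3
    exact h3
  obtain ⟨k, hk⟩ := S.isPGroup' ⟨z, hz⟩
  exact hZ1 z ((QuotientGroup.eq_one_iff z).1 hone) k (congrArg Subtype.val hk)

end Reduction

end CfsgLib.RankOne
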