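import Mathlib

/-!
Almost simple groups whose socle has a rank one Sylow structure: a `p`-element centralising the normaliser of a
Sylow `p`-subgroup is trivial.
-/

set_option autoImplicit false

namespace CfsgLib.RankOne

open scoped Pointwise
open Subgroup

variable {p : ℕ} [Fact p.Prime] {X : Type*} [Group X] [Finite X]

/-- A rank one Sylow structure: the Sylow subgroups other than `U` form a regular orbit of `U`, and some `t`
fixing two of them acts on the upper and lower layers of `U` by powers and without fixed points. -/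
structure Data (p : ℕ) (X : Type*) [Group X] where
  U : Sylow p X
  V : Sylow p X
  ne : V ≠ U
  conj : ∀ Q : Sylow p X, Q ≠ U → ∃ u ∈ U, u • V = Q
  free : ∀ u ∈ U, u • V = V → u = 1
  faithful : ∀ y : X, (∀ Q : Sylow p X, y • Q = Q) → y = 1
  t : X
  tU : t • U = U
  tV : t • V = V
  fixfree : ∀ u ∈ U, t * u = u * t → u = 1
  m : ℕ
  m' : ℕ
  hquot : ∀ u ∈ U, t * u * t⁻¹ * (u ^ m)⁻¹ ∈ centralizer ((U : Subgroup X) : Set X)
  hcent : ∀ u ∈ U, u ∈ centralizer ((U : Subgroup X) : Set X) → t * u * t⁻¹ = u ^ m'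

theorem mem_sylow_of_pow (P : Sylow p X) {y : X} (hy : y • P = P) {k : ℕ} (hk : y ^ p ^ k = 1) :
    y ∈ (P : Subgroup X) := by
  have hp : IsPGroup p (zpowers y) := by
    rintro ⟨w, j, rfl⟩
    exact ⟨k, Subtype.ext (show (y ^ j) ^ (p ^ k) = 1 by
      rw [← zpow_natCast, ← zpow_mul, mul_comm, zpow_mul, zpow_natCast, hk, one_zpow])⟩
  exact ((hp.inf_normalizer_sylow P).le
    ⟨mem_zpowers y, Sylow.smul_eq_iff_mem_normalizer.1 hy⟩).2

theorem conj_mem_of_smul {P : Sylow p X} {y u : X} (hy : y • P = P) (hu : u ∈ P) :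
    y * u * y⁻¹ ∈ P :=
  ((Subgroup.mem_normalizer_iff.1 (Sylow.smul_eq_iff_mem_normalizer.1 hy)) u).1 hu

theorem smul_self_of_mem {P : Sylow p X} {y : X} (hy : y ∈ P) : y • P = P :=
  Sylow.smul_eq_iff_mem_normalizer.2 (le_normalizer hy)

theorem Data.eq_one_of_fix (D : Data p X) {w : X} (hU : w • D.U = D.U) (hV : w • D.V = D.V)
    (hc : ∀ u ∈ D.U, Commute w u) : w = 1 := by
  refine D.faithful w fun Q => ?_
  by_cases hQ : Q = D.U
  · rw [hQ, hU]
  · obtain ⟨u, hu, rfl⟩ := D.conj Q hQ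
    rw [← mul_smul, (hc u hu).eq, mul_smul, hV]

theorem Data.centralizer_le (D : Data p X) {y : X}
    (hy : y ∈ centralizer ((D.U : Subgroup X) : Set X)) : y ∈ D.U := by
  have hp : p.Prime := Fact.out
  have hN : orderOf y ≠ 0 := (orderOf_pos y).ne'
  obtain ⟨a, r, hr, heq⟩ := Nat.exists_eq_pow_mul_and_not_dvd hN p hp.ne_one
  have hcom : ∀ u ∈ D.U, Commute y u := fun u hu => (mem_centralizer_iff.1 hy u hu).symm
  have hyU : y • D.U = D.U :=
    Sylow.smul_eq_iff_mem_normalizer.2 (centralizer_le_normalizer _ hy)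
  set w := y ^ p ^ a with hw
  have hwr : w ^ r = 1 := by rw [hw, ← pow_mul, ← heq, pow_orderOf_eq_one]
  have hwU : w • D.U = D.U := by
    rw [Sylow.smul_eq_iff_mem_normalizer] at hyU ⊢
    exact pow_mem hyU _
  have hwc : ∀ u ∈ D.U, Commute w u := fun u hu => (hcom u hu).pow_left _
  have hwV : w • D.V ≠ D.U := fun h => D.ne (smul_left_cancel w (h.trans hwU.symm))
  obtain ⟨u0, hu0, hu0V⟩ := D.conj _ hwV
  have hiter : ∀ j : ℕ, w ^ j • D.V = u0 ^ j • D.V := by
    intro j
    induction j with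
    | zero => simp
    | succ j ih =>
      rw [pow_succ', mul_smul, ih, ← mul_smul, ((hwc u0 hu0).pow_right j).eq, mul_smul, ← hu0V, ← mul_smul,
        ← pow_succ]
  have hur : u0 ^ r = 1 := D.free _ (pow_mem hu0 r) (by rw [← hiter, hwr, one_smul])
  obtain ⟨b, hb⟩ := D.U.isPGroup' ⟨u0, hu0⟩
  have hb' : u0 ^ p ^ b = 1 := congrArg Subtype.val hb
  have hu1 : u0 = 1 := orderOf_eq_one_iff.1 (Nat.eq_one_of_dvd_coprimes
    (Nat.Coprime.pow_left b (hp.coprime_iff_not_dvd.2 hr))
    (orderOf_dvd_of_pow_eq_one hb') (orderOf_dvd_of_pow_eq_one hur))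
  have hw1 : w = 1 := D.eq_one_of_fix hwU (by rw [← hu0V, hu1, one_smul]) hwc
  exact mem_sylow_of_pow D.U hyU hw1

section Ambient

variable {Pt : Type*} [Group Pt] [Finite Pt] (ι : X →* Pt) (hinj : Function.Injective ι) [ι.range.Normal]

/-- The action of the ambient group on the normal subgroup. -/
noncomputable def autOf : Pt →* MulAut X :=
  ((MulAut.congr (MonoidHom.ofInjective hinj).symm).toMonoidHom).comp (MulAut.conjNormal (H := ι.range))

theorem autOf_spec (g : Pt) (x : X) : ι (autOf ι hinj g x) = g * ι x * g⁻¹ := by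
  have h : ι (autOf ι hinj g x) =
      ((MulAut.conjNormal g (MonoidHom.ofInjective hinj x) : ι.range) : Pt) :=
    MonoidHom.apply_ofInjective_symm hinj _
  rw [h, MulAut.conjNormal_apply]
  rfl

theorem Data.eq_one_of_centralizes_normalizer (D : Data p X)
    (hC : centralizer ((ι.range : Subgroup Pt) : Set Pt) = ⊥) (hinj : Function.Injective ι)
    (S : Sylow p Pt) {z : Pt} (hzc : ∀ g : Pt, g • S = S → Commute g z) : z = 1 := by
  classical
  have hp : p.Prime := Fact.out
  obtain ⟨S', hS'⟩ := (D.U.isPGroup'.map ι).exists_le_sylow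
  obtain ⟨g, hg⟩ := MulAction.exists_smul_eq Pt S' S
  suffices hz : g⁻¹ * z * g = 1 by
    simpa [mul_eq_one_iff_eq_inv, inv_mul_eq_one] using hz
  have hzc' : ∀ h : Pt, h • S' = S' → Commute h (g⁻¹ * z * g) := by
    intro h hh
    have h1 := hzc (g * h * g⁻¹) (by rw [← hg, mul_smul, mul_smul, inv_smul_smul, hh])
    show h * (g⁻¹ * z * g) = g⁻¹ * z * g * h
    calc h * (g⁻¹ * z * g) = g⁻¹ * ((g * h * g⁻¹) * z) * g := by group
      _ = g⁻¹ * (z * (g * h * g⁻¹)) * g := by rw [h1.eq]
      _ = g⁻¹ * z * g * h := by group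
  generalize g⁻¹ * z * g = z at hzc'
  have hcom : (S' : Subgroup Pt).comap ι = (D.U : Subgroup X) :=
    D.U.is_maximal' (S'.isPGroup'.comap_of_injective ι hinj) (map_le_iff_le_comap.1 hS')
  set a := autOf ι hinj with ha
  have hspec := autOf_spec ι hinj
  -- elements of `S'` normalise `U`
  have hS'U : ∀ s ∈ S', ∀ u ∈ D.U, a s u ∈ D.U := by
    intro s hs u hu
    show a s u ∈ (D.U : Subgroup X)
    rw [← hcom, mem_comap, ha, hspec]
    exact mul_mem (mul_mem hs (hS' (mem_map_of_mem ι hu))) (inv_mem hs)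
  have hcenU : ∀ s ∈ S', ∀ u ∈ centralizer ((D.U : Subgroup X) : Set X),
      a s u ∈ centralizer ((D.U : Subgroup X) : Set X) := by
    intro s hs u hu
    refine mem_centralizer_iff.2 fun v hv => ?_
    have h1 := mem_centralizer_iff.1 hu _ (hS'U s⁻¹ (inv_mem hs) v hv)
    have h2 := congrArg (a s) h1
    rw [map_mul, map_mul, ← MulAut.mul_apply, ← map_mul, mul_inv_cancel, map_one, MulAut.one_apply] at h2
    exact h2
  have hinvE : ∀ s : Pt, ∀ x, a s (a s⁻¹ x) = x := fun s x => by
    rw [← MulAut.mul_apply, ← map_mul, mul_inv_cancel, map_one, MulAut.one_apply]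
  -- commutators of `t` with `S'` lie in `U`
  have hx : ∀ s ∈ S', a s D.t * D.t⁻¹ ∈ D.U := by
    intro s hs
    set x := a s D.t * D.t⁻¹ with hxdef
    have hxU : ∀ u ∈ D.U, x * u * x⁻¹ ∈ D.U ∧ x * u * x⁻¹ * u⁻¹ ∈ centralizer ((D.U : Subgroup X) : Set X) ∧
        (u ∈ centralizer ((D.U : Subgroup X) : Set X) → x * u * x⁻¹ = u) := by
      intro u hu
      have htinv : D.t⁻¹ • D.U = D.U := inv_smul_eq_iff.2 D.tU.symm
      set u' := D.t⁻¹ * u * D.t with hu'
      have hu'U : u' ∈ D.U := by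
        have := conj_mem_of_smul htinv hu
        rwa [inv_inv] at this
      set v := a s⁻¹ u' with hv
      have hvU : v ∈ D.U := hS'U _ (inv_mem hs) _ hu'U
      have hconj : x * u * x⁻¹ = a s (D.t * v * D.t⁻¹) := by
        rw [map_mul, map_mul, map_inv, hv, hinvE, hxdef, hu']
        group
      have hu_eq : u = D.t * u' * D.t⁻¹ := by rw [hu']; group
      refine ⟨?_, ?_, ?_⟩
      · rw [hconj]; exact hS'U s hs _ (conj_mem_of_smul D.tU hvU)
      · have hc := hcenU s hs _ (D.hquot v hvU)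
        have hc' := D.hquot u' hu'U
        have hum : a s (v ^ D.m) = u' ^ D.m := by rw [map_pow, hv, hinvE]
        rw [map_mul (a s) (D.t * v * D.t⁻¹), map_inv, hum, ← hconj] at hc
        rw [← hu_eq] at hc'
        have := mul_mem hc (inv_mem hc')
        convert this using 1
        group
      · intro huc
        have hu'c : u' ∈ centralizer ((D.U : Subgroup X) : Set X) := by
          refine mem_centralizer_iff.2 fun w hw => ?_
          have h1 := mem_centralizer_iff.1 huc _ (conj_mem_of_smul D.tU hw)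
          calc w * u' = D.t⁻¹ * ((D.t * w * D.t⁻¹) * u) * D.t := by rw [hu']; group
            _ = D.t⁻¹ * (u * (D.t * w * D.t⁻¹)) * D.t := by rw [h1]
            _ = u' * w := by rw [hu']; group
        rw [hconj, D.hcent v hvU (hcenU _ (inv_mem hs) _ hu'c), map_pow, hv, hinvE,
          ← D.hcent u' hu'U hu'c, ← hu_eq]
    obtain ⟨k, hk⟩ := IsPGroup.iff_card.1 D.U.isPGroup'
    have hpowc : x ^ p ^ k ∈ centralizer ((D.U : Subgroup X) : Set X) := by
      refine mem_centralizer_iff.2 fun u hu => ?_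
      set c := x * u * x⁻¹ * u⁻¹ with hc
      obtain ⟨h1, h2, -⟩ := hxU u hu
      have hcU : c ∈ D.U := mul_mem h1 (inv_mem hu)
      have hxc : x * c * x⁻¹ = c := (hxU c hcU).2.2 h2
      have hit : ∀ j : ℕ, x ^ j * u * (x ^ j)⁻¹ = c ^ j * u := by
        intro j
        induction j with
        | zero => simp
        | succ j ih =>
          have e : x * c ^ j * x⁻¹ = c ^ j := by rw [← conj_pow, hxc]
          calc x ^ (j + 1) * u * (x ^ (j + 1))⁻¹ = x * (x ^ j * u * (x ^ j)⁻¹) * x⁻¹ := by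
                rw [pow_succ', _root_.mul_inv_rev]; group
            _ = x * (c ^ j * u) * x⁻¹ := by rw [ih]
            _ = (x * c ^ j * x⁻¹) * (x * u * x⁻¹) := by group
            _ = c ^ j * (c * u) := by rw [e, hc, inv_mul_cancel_right]
            _ = c ^ (j + 1) * u := by rw [← mul_assoc, ← pow_succ]
      have hc1 : c ^ p ^ k = 1 := by
        have := congrArg Subtype.val (pow_card_eq_one' (x := (⟨c, hcU⟩ : (D.U : Subgroup X))))
        rwa [hk] at this
      have h3 := hit (p ^ k)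
      rw [hc1, one_mul, mul_inv_eq_iff_eq_mul] at h3
      exact h3.symm
    have hmem := D.centralizer_le hpowc
    obtain ⟨l, hl⟩ := D.U.isPGroup' ⟨_, hmem⟩
    have hl' : x ^ p ^ (k + l) = 1 := by
      rw [pow_add, pow_mul]; exact congrArg Subtype.val hl
    refine mem_sylow_of_pow D.U (Sylow.smul_eq_iff_mem_normalizer.2 ?_) hl'
    refine Subgroup.mem_normalizer_fintype fun u hu => (hxU u hu).1
  -- `t` normalises `S'`
  have hT : ι D.t • S' = S' := by
    refine Sylow.ext ((ι D.t • S').is_maximal' S'.isPGroup' ?_).symm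
    intro y hy
    rw [Sylow.coe_subgroup_smul, Subgroup.mem_pointwise_smul_iff_inv_smul_mem, ← map_inv, MulAut.smul_def,
      MulAut.conj_apply, inv_inv] at hy
    set s := (ι D.t)⁻¹ * y * ι D.t with hs
    have h1 : ι (a s D.t * D.t⁻¹) ∈ S' := hS' (mem_map_of_mem ι (hx s hy))
    rw [map_mul, map_inv, ha, hspec] at h1
    have h2 := mul_mem (inv_mem h1) hy
    have e : (s * ι D.t * s⁻¹ * (ι D.t)⁻¹)⁻¹ * s = y := by rw [hs]; group
    exact e ▸ h2
  have hTz : a z D.t = D.t := hinj (by rw [ha, hspec, ← (hzc' _ hT).eq]; group)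
  have hUz : ∀ u ∈ D.U, a z u = u := fun u hu => hinj (by
    rw [ha, hspec, ← (hzc' _ (smul_self_of_mem (hS' (mem_map_of_mem ι hu)))).eq]; group)
  -- `z` fixes every Sylow subgroup
  have hcomm : ∀ (x : X) (Q : Sylow p X), a z • (x • Q) = a z x • (a z • Q) := by
    intro x Q
    rw [Sylow.smul_def, Sylow.smul_def, ← mul_smul, ← mul_smul]
    congr 1
    refine MulEquiv.ext fun y => ?_
    simp [MulAut.mul_apply]
  have hazU : a z • D.U = D.U := by
    refine Sylow.ext ((a z • D.U).is_maximal' D.U.isPGroup' fun y hy => ?_).symm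
    rw [Sylow.pointwise_smul_def, Subgroup.mem_pointwise_smul_iff_inv_smul_mem] at hy
    have h1 := hUz _ hy
    rw [MulAut.smul_def, ← MulAut.mul_apply, mul_inv_cancel, MulAut.one_apply] at h1
    rw [MulAut.smul_def, ← h1] at hy
    exact hy
  have hne : a z • D.V ≠ D.U := fun h => D.ne (smul_left_cancel (a z) (h.trans hazU.symm))
  obtain ⟨u, hu, huV⟩ := D.conj _ hne
  have htQ : D.t • (u • D.V) = u • D.V := by
    have h1 := hcomm D.t D.V
    rw [hTz, D.tV, ← huV] at h1
    exact h1.symm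
  have hu1 : u = 1 := by
    refine D.fixfree u hu ?_
    have h1 : u⁻¹ * (D.t * u * D.t⁻¹) = 1 :=
      D.free _ (mul_mem (inv_mem hu) (conj_mem_of_smul D.tU hu)) (by
        rw [mul_smul, mul_smul, inv_smul_eq_iff.2 D.tV.symm, mul_smul, htQ, inv_smul_smul])
    rw [inv_mul_eq_one] at h1
    conv_rhs => rw [h1]
    group
  rw [hu1, one_smul] at huV
  have hall : ∀ Q : Sylow p X, a z • Q = Q := by
    intro Q
    by_cases hQ : Q = D.U
    · rw [hQ, hazU]
    · obtain ⟨v, hv, rfl⟩ := D.conj Q hQ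
      rw [hcomm, hUz v hv, ← huV]
  have hfix : ∀ x : X, a z x = x := fun x => by
    refine (inv_mul_eq_one.1 (D.faithful _ fun Q => ?_)).symm
    rw [mul_smul, inv_smul_eq_iff, ← hall (x • Q), hcomm, hall Q]
  have hzC : z ∈ centralizer ((ι.range : Subgroup Pt) : Set Pt) := by
    refine mem_centralizer_iff.2 ?_
    rintro _ ⟨x, rfl⟩
    have h1 := congrArg ι (hfix x)
    rw [ha, hspec, mul_inv_eq_iff_eq_mul] at h1
    exact h1.symm
  rwa [hC, mem_bot] at hzC

end Ambient

end CfsgLib.RankOne
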