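import Cfsg.Agent.Lib.LocalStructure.RankOne.Action
import Cfsg.Agent.Lib.Qd.SubgroupSLTwo
import Cfsg.Agent.Lib.Perm.Dickson.Minimal
import Cfsg.Agent.Lib.Classical.SLBasic

/-!
The rank one structure of `PSL₂(q)`.
-/

set_option autoImplicit false

namespace CfsgLib.RankOne

open Matrix CfsgLib.Classical

universe u

variable {F : Type u} [Field F] [Fintype F] {p : ℕ} [Fact p.Prime]

local notation "S2" => Matrix.SpecialLinearGroup (Fin 2) F

theorem natCast_ne_zero_of_lt [CharP F p] {k : ℕ} (hk0 : k ≠ 0) (hk : k < p) : (k : F) ≠ 0 :=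
  fun h => absurd (Nat.le_of_dvd (Nat.pos_of_ne_zero hk0) ((CharP.cast_eq_zero_iff F p k).1 h))
    (not_le.2 hk)

theorem center_eq_bot_of_simple {X : Type*} [Group X] [IsSimpleGroup X]
    (h : ∃ a b : X, a * b ≠ b * a) : Subgroup.center X = ⊥ := by
  refine (Subgroup.Normal.eq_bot_or_eq_top inferInstance).resolve_right fun ht => ?_
  obtain ⟨a, b, hab⟩ := h
  exact hab (Subgroup.mem_center_iff.1 (ht ▸ Subgroup.mem_top b) a)

/-- The upper unitriangular element. -/
def upEl (b : F) : S2 := ⟨!![1, b; 0, 1], by simp [det_fin_two]⟩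

theorem upEl_mul (b c : F) : upEl b * upEl c = upEl (b + c) :=
  Subtype.ext (by
    show (!![1, b; 0, 1] : Matrix (Fin 2) (Fin 2) F) * !![1, c; 0, 1] = !![1, b + c; 0, 1]
    ext i j
    fin_cases i <;> fin_cases j <;> simp [Matrix.mul_apply, Fin.sum_univ_two, add_comm])

theorem upEl_pow (b : F) (k : ℕ) : upEl b ^ k = upEl ((k : F) * b) := by
  induction k with
  | zero =>
    refine Subtype.ext ?_
    show (1 : Matrix (Fin 2) (Fin 2) F) = !![1, ((0 : ℕ) : F) * b; 0, 1]
    ext i j
    fin_cases i <;> fin_cases j <;> simp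
  | succ k ih => rw [pow_succ, ih, upEl_mul]; congr 1; push_cast; ring

theorem upEl_injective : Function.Injective (upEl (F := F)) := fun b c h => by
  simpa [upEl] using congrArg (fun x : S2 => x.1 0 1) h

theorem upEl_zero : upEl (0 : F) = 1 := by
  simpa using (upEl_pow (1 : F) 0).symm

theorem exists_upEl_of_mem {u : S2}
    (hu : u ∈ (upU (F := F)).comap SpecialLinearGroup.toGL) : ∃ b, u = upEl b := by
  obtain ⟨h1, h2, h3⟩ := mem_upU.1 (Subgroup.mem_comap.1 hu)
  refine ⟨u.1 0 1, Subtype.ext ?_⟩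
  show u.1 = !![1, u.1 0 1; 0, 1]
  ext i j
  fin_cases i <;> fin_cases j <;> simp
  · exact h1
  · exact h2
  · exact h3

theorem upEl_mem (b : F) : upEl b ∈ (upU (F := F)).comap SpecialLinearGroup.toGL :=
  Subgroup.mem_comap.2 (mem_upU.2 ⟨by simp [upEl, SpecialLinearGroup.toGL],
    by simp [upEl, SpecialLinearGroup.toGL], by simp [upEl, SpecialLinearGroup.toGL]⟩)

theorem proj_smul_mk (g : S2) (v : Fin 2 → F) (hv : v ≠ 0) :
    ∃ h, g • Projectivization.mk F v hv = Projectivization.mk F (g.1 *ᵥ v) h := by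
  refine ⟨fun h0 => hv ?_, rfl⟩
  exact (Matrix.SpecialLinearGroup.toLin' g).injective
    (h0.trans (map_zero (Matrix.SpecialLinearGroup.toLin' g)).symm)

theorem psl_two_data [CharP F p] (hp : 5 ≤ p) :
    Nonempty (Data p (Matrix.ProjectiveSpecialLinearGroup (Fin 2) F)) ∧
      IsSimpleGroup (Matrix.ProjectiveSpecialLinearGroup (Fin 2) F) ∧
      (∃ a b : Matrix.ProjectiveSpecialLinearGroup (Fin 2) F, a * b ≠ b * a) := by
  classical
  have hpP : p.Prime := Fact.out
  have hF4 : 4 ≤ Nat.card F := by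
    obtain ⟨k, -, hk⟩ := FiniteField.card F p
    rw [Nat.card_eq_fintype_card, hk]
    exact le_trans (by omega) (Nat.le_self_pow k.ne_zero p)
  obtain ⟨hsimp, hncomm⟩ := CfsgLib.Perm.Dickson.psl_simple_noncomm (F := F) hF4
  have hnc : ∃ a b : Matrix.ProjectiveSpecialLinearGroup (Fin 2) F, a * b ≠ b * a := by
    by_contra h
    push Not at h
    exact hncomm ⟨⟨h⟩⟩
  refine ⟨?_, hsimp, hnc⟩
  have h2 : (2 : F) ≠ 0 := by exact_mod_cast natCast_ne_zero_of_lt (F := F) (p := p) two_ne_zero (by omega)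
  have h3 : (3 : F) ≠ 0 := by exact_mod_cast natCast_ne_zero_of_lt (F := F) (p := p) three_ne_zero (by omega)
  have hv0 : (![1, 0] : Fin 2 → F) ≠ 0 := by simp
  have hw0 : (![0, 1] : Fin 2 → F) ≠ 0 := by simp
  set U := (upU (F := F)).comap (SpecialLinearGroup.toGL : S2 →* GL (Fin 2) F) with hU
  let t : S2 := ⟨!![2, 0; 0, (2 : F)⁻¹], by simp [det_fin_two, h2]⟩
  have htu : ∀ b : F, t * upEl b * t⁻¹ = upEl (4 * b) := fun b => by
    rw [mul_inv_eq_iff_eq_mul]
    refine Subtype.ext ?_
    show (!![2, 0; 0, (2 : F)⁻¹] : Matrix (Fin 2) (Fin 2) F) * !![1, b; 0, 1] =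
      !![1, 4 * b; 0, 1] * !![2, 0; 0, (2 : F)⁻¹]
    ext i j
    fin_cases i <;> fin_cases j <;> simp [Matrix.mul_apply, Fin.sum_univ_two]
    field_simp
    ring
  let M : Model p (QuotientGroup.mk' (Subgroup.center S2)) (Projectivization F (Fin 2 → F)) :=
    { surj := QuotientGroup.mk'_surjective _
      ker_central := le_of_eq (QuotientGroup.ker_mk' _)
      ker_coprime := by
        rw [QuotientGroup.ker_mk', card_center_sl (by norm_num : 1 ≤ 2)]
        exact Nat.coprime_comm.1 (hpP.coprime_iff_not_dvd.2 fun h => by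
          have := Nat.le_of_dvd (Nat.gcd_pos_of_pos_left _ two_pos) h
          have := Nat.gcd_le_left (Fintype.card F - 1) two_pos
          omega)
      simple := hsimp
      U := U
      isP := by
        rintro ⟨u, hu⟩
        obtain ⟨b, rfl⟩ := exists_upEl_of_mem hu
        refine ⟨1, Subtype.ext ?_⟩
        show upEl b ^ p ^ 1 = 1
        rw [pow_one, upEl_pow, CharP.cast_eq_zero, zero_mul, upEl_zero]
      ne_bot := fun h => one_ne_zero (upEl_injective ((Subgroup.mem_bot.1 (h ▸ upEl_mem (1 : F))).trans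
        (upEl_zero (F := F)).symm))
      e := Projectivization.mk F ![1, 0] hv0
      f := Projectivization.mk F ![0, 1] hw0
      ne := fun h => by
        obtain ⟨a, ha⟩ := (Projectivization.mk_eq_mk_iff' F _ _ hw0 hv0).1 h
        simpa using congrFun ha 1
      fix := fun u hu => by
        obtain ⟨b, rfl⟩ := exists_upEl_of_mem hu
        obtain ⟨h, e⟩ := proj_smul_mk (upEl b) ![1, 0] hv0
        rw [e, Projectivization.mk_eq_mk_iff']
        exact ⟨1, funext fun i => by fin_cases i <;> simp [upEl]⟩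
      trans := fun x hx => by
        induction x using Projectivization.ind with
        | h v hv => ?_
        have hv1 : v 1 ≠ 0 := fun h => hx (by
          rw [Projectivization.mk_eq_mk_iff']
          exact ⟨v 0, funext fun i => by fin_cases i <;> simp [h]⟩)
        refine ⟨upEl (v 0 / v 1), upEl_mem _, ?_⟩
        obtain ⟨h, e⟩ := proj_smul_mk (upEl (v 0 / v 1)) ![0, 1] hw0
        rw [e, Projectivization.mk_eq_mk_iff']
        refine ⟨(v 1)⁻¹, funext fun i => ?_⟩
        fin_cases i <;> simp [upEl, hv1] <;> field_simp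
      free := fun u hu h => by
        obtain ⟨b, rfl⟩ := exists_upEl_of_mem hu
        obtain ⟨h', e⟩ := proj_smul_mk (upEl b) ![0, 1] hw0
        rw [e, Projectivization.mk_eq_mk_iff'] at h
        obtain ⟨a, ha⟩ := h
        have h0 := congrFun ha 0
        simp [upEl] at h0
        rw [← h0, upEl_zero]
      pelt := fun g hg k hk => by
        obtain ⟨h', e⟩ := proj_smul_mk g ![1, 0] hv0
        rw [e, Projectivization.mk_eq_mk_iff'] at hg
        obtain ⟨a, ha⟩ := hg
        refine Subgroup.mem_comap.2 (CfsgLib.Qd.mem_upU_of_pow hk ?_)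
        simpa using (congrFun ha 1).symm
      g1 := ⟨!![0, -1; 1, 0], by simp [det_fin_two]⟩
      swap := by
        obtain ⟨h, e⟩ := proj_smul_mk (⟨!![0, -1; 1, 0], by simp [det_fin_two]⟩ : S2) ![1, 0] hv0
        rw [e, Projectivization.mk_eq_mk_iff']
        exact ⟨1, funext fun i => by fin_cases i <;> simp⟩
      t := t
      te := by
        obtain ⟨h, e⟩ := proj_smul_mk t ![1, 0] hv0
        rw [e, Projectivization.mk_eq_mk_iff']
        exact ⟨2, funext fun i => by fin_cases i <;> simp [t]⟩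
      tf := by
        obtain ⟨h, e⟩ := proj_smul_mk t ![0, 1] hw0
        rw [e, Projectivization.mk_eq_mk_iff']
        exact ⟨(2 : F)⁻¹, funext fun i => by fin_cases i <;> simp [t]⟩
      fixfree := fun u hu h => by
        obtain ⟨b, rfl⟩ := exists_upEl_of_mem hu
        have h1 : t * upEl b * t⁻¹ = upEl b := mul_inv_eq_iff_eq_mul.2 h
        rw [htu] at h1
        have h5 : 3 * b = 0 := by linear_combination upEl_injective h1
        rw [(mul_eq_zero.1 h5).resolve_left h3, upEl_zero]
      m := 4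
      m' := 4
      hquot := fun u hu => by
        obtain ⟨b, rfl⟩ := exists_upEl_of_mem hu
        rw [htu, upEl_pow, Nat.cast_ofNat, mul_inv_cancel]
        exact one_mem _
      hcent := fun u hu _ => by
        obtain ⟨b, rfl⟩ := exists_upEl_of_mem hu
        rw [htu, upEl_pow, Nat.cast_ofNat] }
  exact M.nonempty_data hnc

end CfsgLib.RankOne
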